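import Mathlib
import Cfsg.Agent.Classical.OrthMat

/-!
Signed permutations of seven coordinates inside the isometry group of the sum of seven squares: the spinor and Dickson
characters on them, for a field in which two is a non-square.
-/

set_option autoImplicit false

namespace Cfsg.Agent.OmegaSevenFus

open Module QuadraticMap
open Cfsg.Agent.Classical.Quad

variable {F : Type*} [Field F]

variable (F) in
/-- The sum of the seven squares. -/
noncomputable def Qs : QuadraticForm F (Fin 7 → F) := QuadraticMap.weightedSumSquares F fun _ : Fin 7 => (1 : F)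

theorem Qs_apply (v : Fin 7 → F) : (Qs F) v = ∑ i, v i * v i := by
  simp [Qs, QuadraticMap.weightedSumSquares_apply]

theorem polar_Qs (u v : Fin 7 → F) : polar (Qs F) u v = 2 * ∑ i, u i * v i := by
  rw [polar, Qs_apply, Qs_apply, Qs_apply, Finset.mul_sum, ← Finset.sum_sub_distrib, ← Finset.sum_sub_distrib]
  refine Finset.sum_congr rfl fun i _ => ?_
  simp only [Pi.add_apply]
  ring

theorem nondegenerate_Qs (h2 : (2 : F) ≠ 0) :
    (polarBilin (Qs F)).Nondegenerate := by
  have key : ∀ u : Fin 7 → F, (∀ v, polar (Qs F) u v = 0) → u = 0 := fun u hu => by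
    funext i
    have h := hu (Pi.single i 1)
    rw [polar_Qs, mul_eq_zero] at h
    have h' := h.resolve_left h2
    rw [Finset.sum_eq_single i (fun j _ hj => by simp [hj]) (by simp)] at h'
    simpa using h'
  exact ⟨fun u hu => key u fun v => by simpa using hu v,
    fun u hu => key u fun v => by rw [polar_comm]; simpa using hu v⟩

/-- The sign attached to a parity. -/
def sg (a : ZMod 2) : F := if a = 0 then 1 else -1

theorem sg_zero : (sg 0 : F) = 1 := if_pos rfl

theorem sg_one : (sg 1 : F) = -1 := if_neg one_ne_zero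

theorem zmod_two (a : ZMod 2) : a = 0 ∨ a = 1 := (by decide : ∀ a : ZMod 2, a = 0 ∨ a = 1) a

theorem sg_add (a b : ZMod 2) : (sg (a + b) : F) = sg a * sg b := by
  rcases zmod_two a with rfl | rfl <;> rcases zmod_two b with rfl | rfl <;>
    simp [sg, show (1 : ZMod 2) + 1 = 0 from rfl]

theorem sg_mul_self (a : ZMod 2) : (sg a : F) * sg a = 1 := by
  rcases zmod_two a with rfl | rfl <;> simp [sg]

theorem sg_mul_cancel (a : ZMod 2) (x : F) : sg a * (sg a * x) = x := by
  rw [← mul_assoc, sg_mul_self, one_mul]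

theorem sg_injective (h2 : (2 : F) ≠ 0) {a b : ZMod 2} (h : (sg a : F) = sg b) : a = b := by
  have : (1 : F) ≠ -1 := fun h' => h2 (by linear_combination h')
  rcases zmod_two a with rfl | rfl <;> rcases zmod_two b with rfl | rfl <;> first | rfl | (exfalso; simp [sg] at h; first | exact this h | exact this h.symm)

variable (F) in
/-- The signed permutation with signs `ε` and permutation `σ`. -/
noncomputable def mon (ε : Fin 7 → ZMod 2) (σ : Equiv.Perm (Fin 7)) : oG (Qs F) :=
  ⟨{ toFun := fun x i => sg (ε i) * x (σ⁻¹ i)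
     invFun := fun y i => sg (ε (σ i)) * y (σ i)
     map_add' := fun x y => by funext i; simp only [Pi.add_apply]; ring
     map_smul' := fun c x => by funext i; simp only [Pi.smul_apply, smul_eq_mul, RingHom.id_apply]; ring
     left_inv := fun x => by funext i; simp [sg_mul_cancel]
     right_inv := fun y => by funext i; simp [sg_mul_cancel] }, by
    show ∀ x, Qs F _ = Qs F x
    intro x
    rw [Qs_apply, Qs_apply, ← Equiv.sum_comp σ]
    refine Finset.sum_congr rfl fun i _ => ?_
    simp only [LinearEquiv.coe_mk, LinearMap.coe_mk, AddHom.coe_mk, Equiv.Perm.coe_inv, Equiv.symm_apply_apply]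
    rw [mul_mul_mul_comm, sg_mul_self, one_mul]⟩

theorem mon_apply (ε : Fin 7 → ZMod 2) (σ : Equiv.Perm (Fin 7)) (x : Fin 7 → F) (i : Fin 7) :
    (mon F ε σ).1 x i = sg (ε i) * x (σ⁻¹ i) := rfl

theorem mon_mul (ε ε' : Fin 7 → ZMod 2) (σ σ' : Equiv.Perm (Fin 7)) :
    (mon F ε σ * mon F ε' σ' : oG (Qs F)) = mon F (ε + ε' ∘ σ.symm) (σ * σ') := by
  refine ext_oG fun x => funext fun i => ?_
  rw [oG_mul_apply, mon_apply, mon_apply, mon_apply, Pi.add_apply, sg_add, mul_inv_rev, Equiv.Perm.mul_apply,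
    mul_assoc]
  rfl

theorem mon_one : (mon F 0 1 : oG (Qs F)) = 1 := by
  refine ext_oG fun x => funext fun i => ?_
  rw [mon_apply, oG_one_apply, Pi.zero_apply, sg_zero, one_mul, inv_one, Equiv.Perm.one_apply]

theorem zmod_two_add_self (ε : Fin 7 → ZMod 2) : ε + ε = 0 := by
  funext i
  have : ∀ a : ZMod 2, a + a = 0 := by decide
  exact this (ε i)

theorem mon_inv (ε : Fin 7 → ZMod 2) (σ : Equiv.Perm (Fin 7)) :
    (mon F ε σ : oG (Qs F))⁻¹ = mon F (ε ∘ σ) σ⁻¹ := by
  refine inv_eq_of_mul_eq_one_right ?_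
  rw [mon_mul, mul_inv_cancel, Function.comp_assoc, Equiv.self_comp_symm, Function.comp_id, zmod_two_add_self,
    mon_one]

theorem mon_conj (ε ε' : Fin 7 → ZMod 2) (σ σ' : Equiv.Perm (Fin 7)) :
    (mon F ε σ * mon F ε' σ' * (mon F ε σ)⁻¹ : oG (Qs F)) =
      mon F (ε + ε' ∘ σ.symm + (ε ∘ σ) ∘ (σ * σ').symm) (σ * σ' * σ⁻¹) := by
  rw [mon_inv, mon_mul, mon_mul]

theorem mon_injective (h2 : (2 : F) ≠ 0) {ε ε' : Fin 7 → ZMod 2} {σ σ' : Equiv.Perm (Fin 7)}
    (h : (mon F ε σ : oG (Qs F)) = mon F ε' σ') : ε = ε' ∧ σ = σ' := by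
  have key : ∀ i, σ⁻¹ i = σ'⁻¹ i ∧ ε i = ε' i := fun i => by
    have h0 := congrArg (fun g : oG (Qs F) => g.1 (Pi.single (σ⁻¹ i) 1) i) h
    simp only [mon_apply, Pi.single_eq_same, mul_one] at h0
    by_cases hc : σ'⁻¹ i = σ⁻¹ i
    · rw [hc, Pi.single_eq_same, mul_one] at h0
      exact ⟨hc.symm, sg_injective h2 h0⟩
    · rw [Pi.single_eq_of_ne hc, mul_zero] at h0
      exact absurd (by rw [← sg_mul_self (F := F) (ε i), h0, mul_zero]) (zero_ne_one (α := F)).symm
  exact ⟨funext fun i => (key i).2, inv_injective (Equiv.ext fun i => (key i).1)⟩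

/-- The standard parity vector. -/
def dl (i : Fin 7) : Fin 7 → ZMod 2 := Pi.single i 1

theorem q_single (i : Fin 7) : (Qs F) (Pi.single i 1) = 1 := by
  rw [Qs_apply, Finset.sum_eq_single i (fun j _ hj => by simp [hj]) (by simp)]
  simp

theorem q_single_sub {i j : Fin 7} (hij : i ≠ j) :
    (Qs F) (Pi.single i 1 - Pi.single j 1) = 2 := by
  rw [Qs_apply, Finset.sum_eq_add_of_mem i j (Finset.mem_univ _) (Finset.mem_univ _) hij
    (fun k _ hk => by simp [hk.1, hk.2])]
  simp [hij, hij.symm]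
  norm_num

variable [Finite F]

theorem chars_dl (h2 : (2 : F) ≠ 0) (i : Fin 7) :
    dickson (nondegenerate_Qs h2) (hex_of_two h2 _) (mon F (dl i) 1 : oG (Qs F)) = -1 ∧
    spin (Qs F) (mon F (dl i) 1 : oG (Qs F)) = -1 := by
  have hv : (Qs F) (Pi.single i 1) ≠ 0 := by rw [q_single]; exact one_ne_zero
  have e : (mon F (dl i) 1 : oG (Qs F)) = rO hv := by
    refine ext_oG fun x => funext fun k => ?_
    rw [mon_apply, rO_apply, polar_Qs, q_single, div_one,
      Finset.sum_eq_single i (fun j _ hj => by simp [hj]) (by simp)]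
    by_cases hk : k = i
    · subst hk
      simp [dl, sg_one]
      ring
    · simp [dl, hk, sg_zero]
  rw [e, dickson_rO, spin_rO h2 hv, if_pos (by rw [q_single]; exact IsSquare.one)]
  exact ⟨rfl, rfl⟩

theorem chars_swap (h2 : (2 : F) ≠ 0) (hns : ¬ IsSquare (2 : F)) {i j : Fin 7} (hij : i ≠ j) :
    dickson (nondegenerate_Qs h2) (hex_of_two h2 _)
      (mon F 0 (Equiv.swap i j) : oG (Qs F)) = -1 ∧
    spin (Qs F) (mon F 0 (Equiv.swap i j) : oG (Qs F)) = 1 := by
  have hv : (Qs F) (Pi.single i 1 - Pi.single j 1) ≠ 0 := by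
    rw [q_single_sub hij]; exact h2
  have e : (mon F 0 (Equiv.swap i j) : oG (Qs F)) = rO hv := by
    refine ext_oG fun x => funext fun k => ?_
    rw [mon_apply, rO_apply, polar_Qs, q_single_sub hij, mul_div_cancel_left₀ _ h2,
      Finset.sum_eq_add_of_mem i j (Finset.mem_univ _) (Finset.mem_univ _) hij
        (fun l _ hl => by simp [hl.1, hl.2]), Equiv.swap_inv, Pi.zero_apply, sg_zero, one_mul]
    by_cases hki : k = i
    · subst hki
      simp [hij, hij.symm]
    · by_cases hkj : k = j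
      · subst hkj
        simp [hij, hij.symm]
      · simp [hki, hkj, Equiv.swap_apply_of_ne_of_ne]
  rw [e, dickson_rO, spin_rO h2 hv, if_neg (by rw [q_single_sub hij]; exact hns)]
  exact ⟨rfl, rfl⟩

/-- Both characters on a signed permutation. -/
theorem chars_mon (h2 : (2 : F) ≠ 0) (hns : ¬ IsSquare (2 : F)) (ε : Fin 7 → ZMod 2) (σ : Equiv.Perm (Fin 7)) :
    dickson (nondegenerate_Qs h2) (hex_of_two h2 _) (mon F ε σ : oG (Qs F)) =
      (if ∑ i, ε i = 0 then 1 else -1) * Equiv.Perm.sign σ ∧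
    spin (Qs F) (mon F ε σ : oG (Qs F)) = if ∑ i, ε i = 0 then 1 else -1 := by
  let P : Equiv.Perm (Fin 7) →* oG (Qs F) :=
    { toFun := fun σ => mon F 0 σ
      map_one' := mon_one
      map_mul' := fun a b => by rw [mon_mul, Pi.zero_comp, add_zero] }
  let D := dickson (nondegenerate_Qs (F := F) h2) (hex_of_two h2 (finrank F (Fin 7 → F)))
  have hperm : ∀ σ, D (P σ) = Equiv.Perm.sign σ ∧ spin (Qs F) (P σ) = 1 := fun σ => by
    induction σ using Equiv.Perm.swap_induction_on with
    | one => simp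
    | swap_mul f x y hxy ih =>
      obtain ⟨a, b⟩ := chars_swap h2 hns hxy
      rw [map_mul, map_mul, map_mul, map_mul, Equiv.Perm.sign_swap hxy]
      exact ⟨by rw [ih.1]; exact congrArg (· * _) a, by rw [ih.2, mul_one]; exact b⟩
  have hdiag : ∀ s : Finset (Fin 7),
      D (mon F (∑ i ∈ s, dl i) 1) = (-1) ^ s.card ∧
      spin (Qs F) (mon F (∑ i ∈ s, dl i) 1 : oG (Qs F)) = (-1) ^ s.card := fun s => by
    induction s using Finset.induction_on with
    | empty => simp [mon_one]
    | insert i s hi ih =>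
      have e : (mon F (∑ k ∈ insert i s, dl k) 1 : oG (Qs F)) =
          mon F (dl i) 1 * mon F (∑ k ∈ s, dl k) 1 := by
        rw [mon_mul, Finset.sum_insert hi, one_mul]; rfl
      rw [e, map_mul, map_mul, Finset.card_insert_of_notMem hi, pow_succ', ih.1, ih.2]
      exact ⟨congrArg (· * _) (chars_dl h2 i).1, congrArg (· * _) (chars_dl h2 i).2⟩
  set s := Finset.univ.filter fun i => ε i = 1 with hs
  have hε : ∑ i ∈ s, dl i = ε := by
    funext k
    rw [Finset.sum_apply]
    have h01 : ∀ a : ZMod 2, a ≠ 1 → a = 0 := by decide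
    by_cases hk : ε k = 1
    · rw [Finset.sum_eq_single k (fun j _ hj => by simp [dl, hj.symm]) (fun h => absurd (by simp [hs, hk]) h), hk]
      simp [dl]
    · rw [Finset.sum_eq_zero fun j hj => ?_, h01 _ hk]
      have : k ≠ j := fun h => hk (by rw [h]; exact (Finset.mem_filter.1 hj).2)
      simp [dl, this]
  have hpar : ((-1 : ℤˣ) ^ s.card) = if ∑ i, ε i = 0 then 1 else -1 := by
    have hsum : ∑ i, ε i = (s.card : ZMod 2) := by
      conv_lhs => rw [← hε]
      simp only [Finset.sum_apply]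
      rw [Finset.sum_comm]
      simp [dl]
    rw [hsum]
    rcases Nat.even_or_odd s.card with h | h
    · rw [h.neg_one_pow, if_pos (ZMod.natCast_eq_zero_iff_even.2 h)]
    · rw [h.neg_one_pow, if_neg]
      rw [ZMod.natCast_eq_zero_iff_even, Nat.not_even_iff_odd]
      exact h
  have e : (mon F ε σ : oG (Qs F)) = mon F ε 1 * P σ := by
    show _ = mon F ε 1 * mon F 0 σ
    rw [mon_mul, Pi.zero_comp, add_zero, one_mul]
  obtain ⟨hd, hsp⟩ := hdiag s
  rw [hε] at hd hsp
  rw [e, map_mul, map_mul, (hperm σ).2, mul_one, hsp, hpar]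
  exact ⟨by rw [← hpar]; exact (congrArg₂ (· * ·) hd (hperm σ).1), rfl⟩

theorem mon_mem_commutator (h2 : (2 : F) ≠ 0) (hns : ¬ IsSquare (2 : F)) {ε : Fin 7 → ZMod 2}
    {σ : Equiv.Perm (Fin 7)} :
    (mon F ε σ : oG (Qs F)) ∈ commutator (oG (Qs F)) ↔
      ∑ i, ε i = 0 ∧ Equiv.Perm.sign σ = 1 := by
  rw [mem_commutator_iff (nondegenerate_Qs h2) h2 (by rw [Module.finrank_fin_fun]; norm_num),
    (chars_mon h2 hns ε σ).1, (chars_mon h2 hns ε σ).2]
  by_cases h : ∑ i, ε i = 0
  · simp [h]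
  · simp [h]

end Cfsg.Agent.OmegaSevenFus
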