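import Mathlib

/-!
A dihedral group of order eight of even permutations of seven points, with the facts used about it.
-/

set_option autoImplicit false

namespace Cfsg.Agent.OmegaSevenFus

open Equiv

/-- `(0 1)(4 5)` -/
def pa : Perm (Fin 7) := ⟨![1, 0, 2, 3, 5, 4, 6], ![1, 0, 2, 3, 5, 4, 6], by decide, by decide⟩

/-- `(0 2)(1 3)` -/
def pb : Perm (Fin 7) := ⟨![2, 3, 0, 1, 4, 5, 6], ![2, 3, 0, 1, 4, 5, 6], by decide, by decide⟩

/-- `(0 1)(2 3)` -/
def pc : Perm (Fin 7) := ⟨![1, 0, 3, 2, 4, 5, 6], ![1, 0, 3, 2, 4, 5, 6], by decide, by decide⟩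

/-- An element of the dihedral group. -/
def pab : Perm (Fin 7) := ⟨![2, 3, 1, 0, 5, 4, 6], ![3, 2, 0, 1, 5, 4, 6], by decide, by decide⟩

/-- An element of the dihedral group. -/
def pba : Perm (Fin 7) := ⟨![3, 2, 0, 1, 5, 4, 6], ![2, 3, 1, 0, 5, 4, 6], by decide, by decide⟩

/-- An element of the dihedral group. -/
def paba : Perm (Fin 7) := ⟨![3, 2, 1, 0, 4, 5, 6], ![3, 2, 1, 0, 4, 5, 6], by decide, by decide⟩

/-- An element of the dihedral group. -/
def pbab : Perm (Fin 7) := ⟨![0, 1, 3, 2, 5, 4, 6], ![0, 1, 3, 2, 5, 4, 6], by decide, by decide⟩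

/-- The dihedral group generated by `pa` and `pb`. -/
def dih : List (Perm (Fin 7)) := [1, pa, pb, pc, pab, pba, paba, pbab]

theorem pa_eq : pa = swap 0 1 * swap 4 5 := by ext i; fin_cases i <;> rfl

theorem pb_eq : pb = swap 0 2 * swap 1 3 := by ext i; fin_cases i <;> rfl

theorem pc_eq_swap : pc = swap 0 1 * swap 2 3 := by ext i; fin_cases i <;> rfl

theorem of_all {p : Perm (Fin 7) → Prop} [DecidablePred p] (h : (dih.all fun a => decide (p a)) = true) :
    ∀ a ∈ dih, p a := fun a ha => of_decide_eq_true (List.all_eq_true.1 h a ha)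

theorem of_any {p : Perm (Fin 7) → Prop} [DecidablePred p] (h : (dih.any fun a => decide (p a)) = true) :
    ∃ a ∈ dih, p a := by
  obtain ⟨a, ha, h'⟩ := List.any_eq_true.1 h
  exact ⟨a, ha, of_decide_eq_true h'⟩

theorem dih_one : (1 : Perm (Fin 7)) ∈ dih := by decide +kernel

theorem dih_mul : ∀ a ∈ dih, ∀ b ∈ dih, a * b ∈ dih := fun a ha b hb =>
  of_all (p := fun b => a * b ∈ dih)
    (of_all (p := fun a => (dih.all fun b => decide (a * b ∈ dih)) = true) (by decide +kernel) a ha) b hb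

theorem dih_inv : ∀ a ∈ dih, a⁻¹ ∈ dih := of_all (by decide +kernel)

theorem dih_sign : ∀ a ∈ dih, Perm.sign a = 1 := by
  have ha : Perm.sign pa = 1 := by rw [pa_eq, map_mul, Perm.sign_swap (by decide), Perm.sign_swap (by decide)]; rfl
  have hb : Perm.sign pb = 1 := by rw [pb_eq, map_mul, Perm.sign_swap (by decide), Perm.sign_swap (by decide)]; rfl
  have e : ∀ a ∈ dih, a = 1 ∨ a = pa ∨ a = pb ∨ a = pa * pb ∨ a = pb * pa ∨ a = pa * pb * (pa * pb) ∨
      a = pa * pb * pa ∨ a = pb * pa * pb := of_all (by decide +kernel)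
  intro a ha'
  rcases e a ha' with h | h | h | h | h | h | h | h <;> subst h <;> simp [map_mul, ha, hb]

theorem pa_mem : pa ∈ dih := by decide +kernel

theorem pb_mem : pb ∈ dih := by decide +kernel

theorem pc_mem : pc ∈ dih := by decide +kernel

theorem dih_four : ∀ a ∈ dih, a * a * (a * a) = 1 := of_all (by decide +kernel)

theorem dih_square : ∀ a ∈ dih, a * a = 1 ∨ a * a = pc := of_all (by decide +kernel)

theorem pc_eq : pc = pa * pb * (pa * pb) := by decide +kernel

theorem pc_ne : pc ≠ 1 := by decide +kernel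

theorem pc_comm : ∀ a ∈ dih, a * pc = pc * a := of_all (by decide +kernel)

theorem common_fix : ∀ i : Fin 7, pa i = i → pb i = i → i = 6 := by decide +kernel

theorem six_fix : ∀ a ∈ dih, a 6 = 6 := of_all (by decide +kernel)

theorem trans_zero (i : Fin 7) (h : pc i ≠ i) : ∃ d ∈ dih, d 0 = i := by
  have key : ∀ i : Fin 7, pc i ≠ i → (dih.any fun d => decide (d 0 = i)) = true := by decide +kernel
  exact of_any (key i h)

theorem trans_two (i : Fin 7) (h : pc i ≠ i) (h0 : i ≠ 0) (h1 : i ≠ 1) : ∃ d ∈ dih, d 0 = 0 ∧ d 2 = i := by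
  have key : ∀ i : Fin 7, pc i ≠ i → i ≠ 0 → i ≠ 1 →
      (dih.any fun d => decide (d 0 = 0 ∧ d 2 = i)) = true := by decide +kernel
  exact of_any (key i h h0 h1)

theorem moved_pair : ∀ σ ∈ dih, σ * σ = 1 → σ ≠ 1 → ∃ i k : Fin 7, σ i ≠ i ∧ σ k ≠ k ∧ k ≠ i ∧ k ≠ σ i :=
  of_all (by decide +kernel)

/-- An even permutation normalising the dihedral group lies in it. -/
theorem mem_dih_of_normalizes {π : Perm (Fin 7)} (hs : Perm.sign π = 1)
    (h1 : ∀ d ∈ dih, π * d * π⁻¹ ∈ dih) (h2 : ∀ d ∈ dih, π⁻¹ * d * π ∈ dih) : π ∈ dih := by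
  have hne : π * pc * π⁻¹ ≠ 1 := fun h => pc_ne (by
    calc pc = π⁻¹ * (π * pc * π⁻¹) * π := by group
      _ = 1 := by rw [h]; group)
  have hc : π * pc = pc * π := by
    have hab : pa * pb ∈ dih := dih_mul _ pa_mem _ pb_mem
    rcases dih_square _ (h1 _ hab) with h | h
    · exact absurd (by rw [pc_eq]; rw [← h]; group) hne
    · have : π * pc * π⁻¹ = pc := by
        calc π * pc * π⁻¹ = π * (pa * pb) * π⁻¹ * (π * (pa * pb) * π⁻¹) := by rw [pc_eq]; group
          _ = pc := h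
      calc π * pc = π * pc * π⁻¹ * π := by group
        _ = pc * π := by rw [this]
  have h6 : π 6 = 6 := by
    have key : ∀ d ∈ dih, d (π 6) = π 6 := fun d hd => by
      have := six_fix _ (h2 d hd)
      rw [Perm.mul_apply, Perm.mul_apply] at this
      exact (Perm.eq_inv_iff_eq.1 this.symm).symm
    exact common_fix _ (key _ pa_mem) (key _ pb_mem)
  obtain ⟨d, hd, hd0⟩ := trans_zero (π 0) (fun h => by
    rw [← Perm.mul_apply, ← hc, Perm.mul_apply] at h
    exact absurd (π.injective h) (by decide +kernel))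
  set π' := d⁻¹ * π with hπ'
  have hdi := dih_inv d hd
  have hc' : π' * pc = pc * π' := by
    rw [hπ', mul_assoc, hc, ← mul_assoc, pc_comm _ hdi, mul_assoc]
  have h0' : π' 0 = 0 := by rw [hπ', Perm.mul_apply, Perm.inv_eq_iff_eq]; exact hd0.symm
  have h6' : π' 6 = 6 := by rw [hπ', Perm.mul_apply, h6]; exact six_fix _ hdi
  have hs' : Perm.sign π' = 1 := by rw [hπ', map_mul, hs, dih_sign _ hdi, one_mul]
  have hcomm : ∀ x, pc (π' x) = π' (pc x) := fun x => by rw [← Perm.mul_apply, ← hc', Perm.mul_apply]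
  have h1' : π' 1 = 1 := by
    have := hcomm 0
    rw [h0', show pc 0 = 1 by decide +kernel] at this
    exact this.symm
  obtain ⟨e, he, he0, he2⟩ := trans_two (π' 2)
    (fun h => by rw [hcomm] at h; exact absurd (π'.injective h) (by decide +kernel))
    (fun h => absurd (π'.injective (h.trans h0'.symm)) (by decide +kernel))
    (fun h => absurd (π'.injective (h.trans h1'.symm)) (by decide +kernel))
  set τ := e⁻¹ * π' with hτ
  have hei := dih_inv e he
  have hcτ : τ * pc = pc * τ := by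
    rw [hτ, mul_assoc, hc', ← mul_assoc, pc_comm _ hei, mul_assoc]
  have hcommτ : ∀ x, pc (τ x) = τ (pc x) := fun x => by rw [← Perm.mul_apply, ← hcτ, Perm.mul_apply]
  have ht0 : τ 0 = 0 := by rw [hτ, Perm.mul_apply, h0', Perm.inv_eq_iff_eq]; exact he0.symm
  have ht2 : τ 2 = 2 := by rw [hτ, Perm.mul_apply, Perm.inv_eq_iff_eq]; exact he2.symm
  have ht6 : τ 6 = 6 := by rw [hτ, Perm.mul_apply, h6']; exact six_fix _ hei
  have hts : Perm.sign τ = 1 := by rw [hτ, map_mul, hs', dih_sign _ hei, one_mul]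
  have ht1 : τ 1 = 1 := by
    have := hcommτ 0
    rw [ht0, show pc 0 = 1 by decide +kernel] at this
    exact this.symm
  have ht3 : τ 3 = 3 := by
    have := hcommτ 2
    rw [ht2, show pc 2 = 3 by decide +kernel] at this
    exact this.symm
  have hval : ∀ a : Fin 7, a ≠ 0 → a ≠ 1 → a ≠ 2 → a ≠ 3 → a ≠ 6 → a = 4 ∨ a = 5 := by decide +kernel
  have hne' : ∀ {x y : Fin 7}, τ y = y → x ≠ y → τ x ≠ y := fun hy hxy h =>
    hxy (τ.injective (h.trans hy.symm))
  have h4 : τ 4 = 4 ∨ τ 4 = 5 := hval _ (hne' ht0 (by decide)) (hne' ht1 (by decide)) (hne' ht2 (by decide))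
    (hne' ht3 (by decide)) (hne' ht6 (by decide))
  have h5 : τ 5 = 4 ∨ τ 5 = 5 := hval _ (hne' ht0 (by decide)) (hne' ht1 (by decide)) (hne' ht2 (by decide))
    (hne' ht3 (by decide)) (hne' ht6 (by decide))
  have htop : τ = 1 := by
    rcases h4 with h4 | h4
    · have h5' : τ 5 = 5 := h5.resolve_left fun h => absurd (τ.injective (h.trans h4.symm)) (by decide)
      ext x
      fin_cases x <;> simp [ht0, ht1, ht2, ht3, ht6, h4, h5']
    · have h5' : τ 5 = 4 := h5.resolve_right fun h => absurd (τ.injective (h.trans h4.symm)) (by decide)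
      have : τ = swap 4 5 := by
        ext x
        fin_cases x <;> simp [ht0, ht1, ht2, ht3, ht6, h4, h5', swap_apply_of_ne_of_ne]
      rw [this, Perm.sign_swap (by decide)] at hts
      exact absurd hts (by decide)
  have hπe : π = d * e := by
    have h : τ = e⁻¹ * (d⁻¹ * π) := rfl
    calc π = d * e * τ := by rw [h]; group
      _ = d * e := by rw [htop, mul_one]
  rw [hπe]
  exact dih_mul _ hd _ he

/-- Even permutations act transitively on ordered pairs. -/
theorem exists_even_pair {a b i j : Fin 7} (hab : a ≠ b) (hij : i ≠ j) :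
    ∃ π : Perm (Fin 7), Perm.sign π = 1 ∧ π a = i ∧ π b = j := by
  set π₁ := swap a i with hπ₁
  set π₀ := swap (π₁ b) j * π₁ with hπ₀
  have hb1 : π₁ b ≠ i := fun h => hab (π₁.injective (by rw [h, hπ₁, swap_apply_left]))
  have ha : π₀ a = i := by
    rw [hπ₀, Perm.mul_apply, hπ₁, swap_apply_left, ← hπ₁]
    exact swap_apply_of_ne_of_ne hb1.symm hij
  have hb : π₀ b = j := by rw [hπ₀, Perm.mul_apply, swap_apply_left]
  rcases Int.units_eq_one_or (Perm.sign π₀) with h | h
  · exact ⟨π₀, h, ha, hb⟩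
  · obtain ⟨k, l, hkl, hki, hkj, hli, hlj⟩ : ∃ k l : Fin 7, k ≠ l ∧ k ≠ i ∧ k ≠ j ∧ l ≠ i ∧ l ≠ j := by
      have key : ∀ i j : Fin 7, ∃ k l : Fin 7, k ≠ l ∧ k ≠ i ∧ k ≠ j ∧ l ≠ i ∧ l ≠ j := by decide +kernel
      exact key i j
    exact ⟨swap k l * π₀, by rw [map_mul, Perm.sign_swap hkl, h]; rfl,
      by rw [Perm.mul_apply, ha]; exact swap_apply_of_ne_of_ne hki.symm hli.symm,
      by rw [Perm.mul_apply, hb]; exact swap_apply_of_ne_of_ne hkj.symm hlj.symm⟩

end Cfsg.Agent.OmegaSevenFus
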