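import Mathlib
import Cfsg.Agent.GroupSub.Data
import Cfsg.Agent.Core.Solvable
import Cfsg.Agent.OmegaSevenFus.Monomial
import Cfsg.Agent.OmegaSevenFus.Perms

/-!
A self-normalising 2-subgroup of signed permutations in the commutator subgroup of the orthogonal group of seven
squares over a field in which two is a non-square, and the absence of strongly closed subgroups in it.
-/

set_option autoImplicit false

namespace Cfsg.Agent.OmegaSevenFus

open Module QuadraticMap Equiv
open Cfsg.Agent.Classical.Quad Cfsg.Agent.GroupSub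

variable {F : Type*} [Field F]

/-- Even signs on the dihedral permutations. -/
noncomputable def monS (F : Type*) [Field F] : Subgroup (oG (Qs F)) where
  carrier := {x | ∃ ε σ, ∑ i, ε i = 0 ∧ σ ∈ dih ∧ x = mon F ε σ}
  one_mem' := ⟨0, 1, by simp, dih_one, mon_one.symm⟩
  mul_mem' := by
    rintro _ _ ⟨ε, σ, he, hs, rfl⟩ ⟨ε', σ', he', hs', rfl⟩
    refine ⟨ε + ε' ∘ σ.symm, σ * σ', ?_, dih_mul _ hs _ hs', mon_mul ε ε' σ σ'⟩
    simp only [Pi.add_apply, Finset.sum_add_distrib, Function.comp_apply]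
    rw [he, Equiv.sum_comp σ.symm ε', he', add_zero]
  inv_mem' := by
    rintro _ ⟨ε, σ, he, hs, rfl⟩
    exact ⟨ε ∘ σ, σ⁻¹, by rw [← he]; exact Equiv.sum_comp σ ε, dih_inv _ hs, mon_inv ε σ⟩

theorem eq_zero_of_eq_neg (h2 : (2 : F) ≠ 0) {x : F} (h : -x = x) : x = 0 := by
  have : 2 * x = 0 := by linear_combination -h
  exact (mul_eq_zero.1 this).resolve_left h2

theorem orbit_cases : ∀ ε : Fin 7 → ZMod 2, ∑ i, ε i = 0 → (∀ i, ε (pa i) = ε i ∧ ε (pb i) = ε i) →
    ε = 0 ∨ ε = dl 4 + dl 5 ∨ ε = dl 0 + dl 1 + dl 2 + dl 3 ∨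
      ε = dl 0 + dl 1 + dl 2 + dl 3 + dl 4 + dl 5 := by decide +kernel

theorem shift_four : (dl 0 + dl 1 + dl 2 + dl 3) + (dl 0 + dl 1 + dl 2 + dl 3) ∘ (swap 3 4 * swap 0 1 : Perm (Fin 7)).symm =
    dl 3 + dl 4 := by decide +kernel

theorem shift_six : (dl 0 + dl 1 + dl 2 + dl 3 + dl 4 + dl 5) +
    (dl 0 + dl 1 + dl 2 + dl 3 + dl 4 + dl 5) ∘ (swap 5 6 * swap 0 1 : Perm (Fin 7)).symm = dl 5 + dl 6 := by
  decide +kernel

theorem even_decomp : ∀ ε : Fin 7 → ZMod 2, ∑ i, ε i = 0 →
    ε = ∑ i ∈ Finset.univ.filter (fun i => i ≠ 6 ∧ ε i = 1), (dl i + dl 6) := by decide +kernel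

variable [Finite F] {G : Type*} [Group G] [Finite G] (ρ : G →* oG (Qs F))

/-- The 2-subgroup. -/
noncomputable def S₀ : Subgroup G := (monS F).comap ρ

/-- A signed permutation occurs in the image of `T`. -/
def InT (T : Subgroup G) (ε : Fin 7 → ZMod 2) (σ : Perm (Fin 7)) : Prop := ∃ x ∈ T, ρ x = mon F ε σ

theorem InT.mul {T : Subgroup G} {ε ε' : Fin 7 → ZMod 2} {σ σ' : Perm (Fin 7)} (h : InT ρ T ε σ)
    (h' : InT ρ T ε' σ') : InT ρ T (ε + ε' ∘ σ.symm) (σ * σ') := by
  obtain ⟨x, hx, ex⟩ := h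
  obtain ⟨y, hy, ey⟩ := h'
  exact ⟨x * y, T.mul_mem hx hy, by rw [map_mul, ex, ey, mon_mul]⟩

theorem InT.add {T : Subgroup G} {ε ε' : Fin 7 → ZMod 2} (h : InT ρ T ε 1) (h' : InT ρ T ε' 1) :
    InT ρ T (ε + ε') 1 := by
  have := h.mul ρ h'
  rwa [mul_one, show ε' ∘ (1 : Perm (Fin 7)).symm = ε' from rfl] at this

variable {ρ}

/-- The hypotheses on the embedding. -/
structure Setup (ρ : G →* oG (Qs F)) : Prop where
  two : (2 : F) ≠ 0
  nonsquare : ¬ IsSquare (2 : F)
  inj : Function.Injective ρ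
  range : ρ.range = commutator (oG (Qs F))

namespace Setup

variable (H : Setup ρ)
include H

theorem lift {ε : Fin 7 → ZMod 2} {σ : Perm (Fin 7)} (he : ∑ i, ε i = 0) (hs : Perm.sign σ = 1) :
    ∃ g : G, ρ g = mon F ε σ := by
  have : mon F ε σ ∈ ρ.range := by
    rw [H.range]; exact (mon_mem_commutator H.two H.nonsquare).2 ⟨he, hs⟩
  exact this

theorem mem_iff {x : G} : x ∈ S₀ ρ ↔ ∃ ε σ, ∑ i, ε i = 0 ∧ σ ∈ dih ∧ ρ x = mon F ε σ := Iff.rfl

/-- Normalising elements are signed permutations. -/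
theorem exists_mon_of_normalizer {g : G} (hg : g ∈ Subgroup.normalizer ((S₀ ρ : Subgroup G) : Set G)) :
    ∃ ε π, ∑ i, ε i = 0 ∧ Perm.sign π = 1 ∧ ρ g = mon F ε π ∧ ∀ d ∈ dih, π * d * π⁻¹ ∈ dih := by
  classical
  set T := ρ g with hT
  have key : ∀ j : Fin 7, ∃ (m : Fin 7) (a : ZMod 2), T.1 (Pi.single j (1 : F)) = (sg a : F) • (Pi.single m 1 : Fin 7 → F) := by
    intro j
    let dd : Fin 7 → ZMod 2 := fun i => if i = j then 0 else 1
    have hdd : ∑ i, dd i = 0 := by
      have : ∀ j : Fin 7, (∑ i, if i = j then (0 : ZMod 2) else 1) = 0 := by decide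
      exact this j
    obtain ⟨x, hx⟩ := H.lift hdd (map_one Perm.sign)
    have hxS : x ∈ S₀ ρ := ⟨dd, 1, hdd, dih_one, hx⟩
    obtain ⟨ε, σ, -, hσ, hX⟩ := (Subgroup.mem_normalizer_iff.1 hg x).1 hxS
    set X := T * mon F dd 1 * T⁻¹ with hXdef
    have hXX : X = mon F ε σ := by rw [hXdef, hT, ← hx, ← map_inv, ← map_mul, ← map_mul]; exact hX
    have hddsq : (mon F dd 1 * mon F dd 1 : oG (Qs F)) = 1 := by
      rw [mon_mul, show dd ∘ (1 : Perm (Fin 7)).symm = dd from rfl, zmod_two_add_self, one_mul, mon_one]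
    have hsq : X * X = 1 := by
      rw [hXdef, show T * mon F dd 1 * T⁻¹ * (T * mon F dd 1 * T⁻¹) = T * (mon F dd 1 * mon F dd 1) * T⁻¹ by group,
        hddsq, mul_one, mul_inv_cancel]
    have hσσ : σ * σ = 1 := by
      have h := hXX ▸ hsq
      rw [mon_mul, ← mon_one] at h
      exact (mon_injective H.two h).2
    -- the fixed vectors form the line through `T e_j`
    have hline : ∀ v, X.1 v = v → ∃ c : F, v = c • T.1 (Pi.single j 1) := by
      intro v hv
      set w := (T⁻¹).1 v with hw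
      have hwfix : (mon F dd 1).1 w = w := by
        have h := congrArg (fun u => (T⁻¹).1 u) hv
        simp only [hXdef, oG_mul_apply, oG_inv_apply] at h
        exact h
      refine ⟨w j, ?_⟩
      have hw' : w = w j • Pi.single j 1 := by
        funext i
        by_cases hij : i = j
        · subst hij; simp
        · have h := congrFun hwfix i
          rw [mon_apply, inv_one, Perm.one_apply, show dd i = 1 from if_neg hij, sg_one, neg_one_mul] at h
          simp [hij, eq_zero_of_eq_neg H.two h]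
      rw [← map_smul, ← hw', hw, oG_apply_inv]
    set b := T.1 (Pi.single j (1 : F)) with hb
    have hσ1 : σ = 1 := by
      by_contra hne
      obtain ⟨i, k, hi, hk, hki, hkσ⟩ := moved_pair σ hσ hσσ hne
      have hfix : ∀ u : Fin 7 → F, X.1 (u + X.1 u) = u + X.1 u := fun u => by
        rw [map_add, ← oG_mul_apply, hsq, oG_one_apply, add_comm]
      have hinv : ∀ a, σ⁻¹ a = σ a := fun a => by rw [inv_eq_of_mul_eq_one_right hσσ]
      obtain ⟨c₁, hc₁⟩ := hline _ (hfix (Pi.single i 1))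
      obtain ⟨c₂, hc₂⟩ := hline _ (hfix (Pi.single k 1))
      have h1i := congrFun hc₁ i
      have h1k := congrFun hc₁ k
      have h2k := congrFun hc₂ k
      rw [hXX] at h1i h1k h2k
      simp only [Pi.add_apply, mon_apply, hinv, Pi.smul_apply, smul_eq_mul] at h1i h1k h2k
      have hσk : σ k ≠ i := fun h => hkσ (by rw [← h, ← Perm.mul_apply, hσσ, Perm.one_apply])
      rw [Pi.single_eq_same, Pi.single_eq_of_ne hi, mul_zero, add_zero] at h1i
      rw [Pi.single_eq_of_ne hki, Pi.single_eq_of_ne hσk, mul_zero, add_zero] at h1k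
      rw [Pi.single_eq_same, Pi.single_eq_of_ne hk, mul_zero, add_zero] at h2k
      rcases mul_eq_zero.1 h1k.symm with h | h
      · rw [h, zero_mul] at h1i; exact one_ne_zero h1i
      · rw [h, mul_zero] at h2k; exact one_ne_zero h2k
    subst hσ1
    have hXb : X.1 b = b := by
      rw [hb, hXdef, oG_mul_apply, oG_mul_apply, oG_inv_apply]
      congr 1
      funext i
      rw [mon_apply, inv_one, Perm.one_apply]
      by_cases hij : i = j
      · subst hij; simp [dd, sg_zero]
      · simp [hij]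
    have hQb : Qs F b = 1 := by rw [hb, T.2]; exact q_single j
    obtain ⟨m, hm⟩ : ∃ m, b m ≠ 0 := by
      by_contra h
      push Not at h
      exact one_ne_zero (α := F) (by rw [← hQb, show b = 0 from funext h, QuadraticMap.map_zero])
    have hεm : ε m = 0 := by
      refine (zmod_two (ε m)).resolve_right fun h => hm ?_
      have h' := congrFun hXb m
      rw [hXX, mon_apply, inv_one, Perm.one_apply, h, sg_one, neg_one_mul] at h'
      exact eq_zero_of_eq_neg H.two h'
    obtain ⟨c, hc⟩ := hline (Pi.single m 1) (by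
      rw [hXX]
      funext i
      rw [mon_apply, inv_one, Perm.one_apply]
      by_cases him : i = m
      · subst him; rw [hεm, sg_zero, one_mul]
      · simp [him])
    have hc0 : c ≠ 0 := fun h => by
      have := congrFun hc m
      simp [h] at this
    have hzero : ∀ i, i ≠ m → b i = 0 := fun i hi => by
      have := congrFun hc i
      rw [Pi.single_eq_of_ne hi, Pi.smul_apply, smul_eq_mul] at this
      exact (mul_eq_zero.1 this.symm).resolve_left hc0
    have hsum : b m * b m = 1 := by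
      rw [Qs_apply, Finset.sum_eq_single m (fun i _ hi => by rw [hzero i hi, mul_zero]) (by simp)] at hQb
      exact hQb
    refine ⟨m, if b m = 1 then 0 else 1, funext fun i => ?_⟩
    by_cases him : i = m
    · subst him
      rcases mul_self_eq_one_iff.1 hsum with h | h
      · rw [if_pos h, sg_zero, one_smul, Pi.single_eq_same]; exact h
      · have : b i ≠ 1 := fun h' => H.two (by linear_combination h - h')
        rw [if_neg this, sg_one, neg_one_smul, Pi.neg_apply, Pi.single_eq_same]; exact h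
    · rw [hzero i him]; simp [him]
  choose p a hpa using key
  have hinj : Function.Injective p := by
    intro x y hxy
    by_contra hne
    have h0 : T.1 ((sg (a x) : F) • (Pi.single x 1 : Fin 7 → F) - (sg (a y) : F) • (Pi.single y 1 : Fin 7 → F)) = 0 := by
      rw [map_sub, map_smul, map_smul, hpa, hpa, smul_smul, smul_smul, sg_mul_self, sg_mul_self, hxy, sub_self]
    rw [LinearEquiv.map_eq_zero_iff] at h0
    have := congrFun h0 x
    simp [hne] at this
    exact absurd (by rw [← sg_mul_self (F := F) (a x), this, mul_zero]) (zero_ne_one (α := F)).symm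
  let π : Perm (Fin 7) := Equiv.ofBijective p ⟨hinj, Finite.surjective_of_injective hinj⟩
  have hTeq : T = mon F (a ∘ π.symm) π := by
    refine ext_oG fun x => ?_
    suffices (T.1 : (Fin 7 → F) →ₗ[F] (Fin 7 → F)) = (mon F (a ∘ π.symm) π).1 from LinearMap.congr_fun this x
    refine (Pi.basisFun F (Fin 7)).ext fun j => ?_
    rw [Pi.basisFun_apply]
    show T.1 _ = (mon F (a ∘ π.symm) π).1 _
    funext i
    rw [hpa, mon_apply, Pi.smul_apply, smul_eq_mul, Function.comp_apply, Perm.inv_def]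
    by_cases hi : i = p j
    · subst hi
      have : π.symm (p j) = j := π.symm_apply_apply j
      rw [this, Pi.single_eq_same, Pi.single_eq_same]
    · rw [Pi.single_eq_of_ne hi, Pi.single_eq_of_ne, mul_zero, mul_zero]
      intro h
      exact hi (by rw [← h]; exact (π.apply_symm_apply i).symm)
  obtain ⟨he, hs⟩ := (mon_mem_commutator H.two H.nonsquare).1
    (show mon F (a ∘ π.symm) π ∈ commutator (oG (Qs F)) by rw [← H.range, ← hTeq]; exact ⟨g, rfl⟩)
  refine ⟨a ∘ π.symm, π, he, hs, hTeq, fun d hd => ?_⟩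
  obtain ⟨x, hx⟩ := H.lift (ε := 0) (by simp) (dih_sign d hd)
  obtain ⟨ε', σ', -, hσ', hX⟩ :=
    (Subgroup.mem_normalizer_iff.1 hg x).1 ⟨0, d, by simp, hd, hx⟩
  rw [map_mul, map_mul, map_inv, hx, ← hT, hTeq, mon_conj] at hX
  exact (mon_injective H.two hX).2 ▸ hσ'

/-- The subgroup is self-normalising. -/
theorem normalizer_eq : Subgroup.normalizer ((S₀ ρ : Subgroup G) : Set G) = S₀ ρ := by
  refine le_antisymm (fun g hg => ?_) Subgroup.le_normalizer
  obtain ⟨ε, π, he, hs, hρ, h1⟩ := H.exists_mon_of_normalizer hg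
  obtain ⟨ε', π', -, -, hρ', h2⟩ := H.exists_mon_of_normalizer (Subgroup.inv_mem _ hg)
  rw [map_inv, hρ, mon_inv] at hρ'
  obtain rfl := (mon_injective H.two hρ').2
  exact ⟨ε, π, he, mem_dih_of_normalizes hs h1 (fun d hd => by simpa using h2 d hd), hρ⟩

theorem isPGroup : IsPGroup 2 (S₀ ρ) := by
  rintro ⟨x, ε, σ, -, hσ, hx⟩
  refine ⟨3, Subtype.ext ?_⟩
  show x ^ 2 ^ 3 = 1
  refine H.inj ?_
  rw [map_pow, map_one, hx]
  set y := mon F ε σ with hy
  have e : y ^ 2 ^ 3 = (y * y * (y * y)) * (y * y * (y * y)) := by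
    simp only [show (2 : ℕ) ^ 3 = 8 from rfl, pow_succ, pow_zero, one_mul, mul_assoc]
  rw [e, hy, mon_mul, mon_mul, dih_four σ hσ, mon_mul, one_mul,
    show ∀ η : Fin 7 → ZMod 2, η ∘ (1 : Perm (Fin 7)).symm = η from fun η => rfl, zmod_two_add_self, mon_one]

theorem conj_mem {T : Subgroup G} (hT : EltClosed (S₀ ρ) T) {ε : Fin 7 → ZMod 2} {σ : Perm (Fin 7)}
    (h : InT ρ T ε σ) {π : Perm (Fin 7)} (hπ : Perm.sign π = 1) (he : ∑ i, ε i = 0)
    (hd : π * σ * π⁻¹ ∈ dih) : InT ρ T (ε ∘ π.symm) (π * σ * π⁻¹) := by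
  obtain ⟨x, hx, ex⟩ := h
  obtain ⟨g, hg⟩ := H.lift (ε := 0) (by simp) hπ
  have e : ρ (g * x * g⁻¹) = mon F (ε ∘ π.symm) (π * σ * π⁻¹) := by
    rw [map_mul, map_mul, map_inv, hg, ex, mon_conj, Pi.zero_comp, Pi.zero_comp, zero_add, add_zero]
  refine ⟨_, hT.2 x hx g ⟨_, _, ?_, hd, e⟩, e⟩
  exact (Equiv.sum_comp π.symm ε).trans he

theorem conj_sign {T : Subgroup G} (hT : EltClosed (S₀ ρ) T) {ε : Fin 7 → ZMod 2}
    (h : InT ρ T ε 1) {π : Perm (Fin 7)} (hπ : Perm.sign π = 1) (he : ∑ i, ε i = 0) :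
    InT ρ T (ε ∘ π.symm) 1 := by
  have := H.conj_mem hT h hπ he (by rw [mul_one, mul_inv_cancel]; exact dih_one)
  rwa [mul_one, mul_inv_cancel] at this

/-- A strongly closed subgroup with a nontrivial element contains a sign vector of weight two. -/
theorem exists_pair {T : Subgroup G} (hT : EltClosed (S₀ ρ) T) (hne : T ≠ ⊥) :
    ∃ a b : Fin 7, a ≠ b ∧ InT ρ T (dl a + dl b) 1 := by
  haveI : Fact (Nat.Prime 2) := ⟨Nat.prime_two⟩
  haveI : Group.IsNilpotent (S₀ ρ) := (H.isPGroup).isNilpotent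
  set V : Subgroup (S₀ ρ) := T.subgroupOf (S₀ ρ) with hV
  haveI : V.Normal := Subgroup.normal_subgroupOf_of_le_normalizer hT.le_normalizer
  have hVne : V ≠ ⊥ := by
    rw [hV, Ne, Subgroup.subgroupOf_eq_bot]
    intro hd
    exact hne (by simpa [inf_eq_left.2 hT.1] using disjoint_iff.1 hd)
  obtain ⟨x, ⟨hxT, hxC⟩, hx1⟩ :=
    (Subgroup.bot_or_exists_ne_one _).resolve_left (Core.inf_center_ne_bot hVne)
  obtain ⟨ε, σ, he, hσ, hx⟩ := x.2
  have hcomm : ∀ η τ, ∑ i, η i = 0 → τ ∈ dih → mon F ε σ * mon F η τ = mon F η τ * mon F ε σ := by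
    intro η τ hη hτ
    obtain ⟨y, hy⟩ := H.lift hη (dih_sign τ hτ)
    have h := congrArg (fun z : S₀ ρ => ρ (z : G)) (Subgroup.mem_center_iff.1 hxC ⟨y, η, τ, hη, hτ, hy⟩)
    simp only [Subgroup.coe_mul, map_mul] at h
    rw [hx, hy] at h
    exact h.symm
  have hσ1 : σ = 1 := by
    by_contra hne'
    obtain ⟨i, hi⟩ : ∃ i, σ i ≠ i := by
      by_contra h
      push Not at h
      exact hne' (Equiv.ext h)
    obtain ⟨k, hk1, hk2⟩ : ∃ k, k ≠ i ∧ k ≠ σ i :=
      (by decide : ∀ a b : Fin 7, ∃ k, k ≠ a ∧ k ≠ b) i (σ i)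
    have h := hcomm (dl i + dl k) 1
      (by simp [dl, Finset.sum_add_distrib, show (1 : ZMod 2) + 1 = 0 from rfl]) dih_one
    rw [mon_mul, mon_mul, show ε ∘ (1 : Perm (Fin 7)).symm = ε from rfl, add_comm (dl i + dl k) ε] at h
    have h' := congrFun (add_left_cancel (mon_injective H.two h).1) (σ i)
    simp [dl, Pi.single_apply, hi, Ne.symm hk1, Ne.symm hk2, hk1, hk2] at h'
  subst hσ1
  have horb : ∀ d ∈ dih, ∀ i, ε (d i) = ε i := by
    intro d hd i
    have h := hcomm 0 d (by simp) hd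
    rw [mon_mul, mon_mul, Pi.zero_comp, add_zero, zero_add] at h
    have := congrFun (mon_injective H.two h).1 (d i)
    simpa using this
  have hcases := orbit_cases ε he fun i => ⟨horb pa pa_mem i, horb pb pb_mem i⟩
  have hin : InT ρ T ε 1 := ⟨x, hxT, hx⟩
  rcases hcases with h | h | h | h
  · exact absurd (Subtype.ext (H.inj (by rw [hx, h, mon_one, OneMemClass.coe_one, map_one]))) hx1
  · exact ⟨4, 5, by decide, h ▸ hin⟩
  · refine ⟨3, 4, by decide, ?_⟩
    have := hin.add ρ (H.conj_sign hT hin (π := swap 3 4 * swap 0 1)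
      (by rw [map_mul, Perm.sign_swap (by decide), Perm.sign_swap (by decide)]; rfl) he)
    subst h
    rwa [shift_four] at this
  · refine ⟨5, 6, by decide, ?_⟩
    have := hin.add ρ (H.conj_sign hT hin (π := swap 5 6 * swap 0 1)
      (by rw [map_mul, Perm.sign_swap (by decide), Perm.sign_swap (by decide)]; rfl) he)
    subst h
    rwa [shift_six] at this

/-- A nontrivial strongly closed subgroup contains all even sign vectors. -/
theorem signs_mem {T : Subgroup G} (hT : EltClosed (S₀ ρ) T) (hne : T ≠ ⊥) {ε : Fin 7 → ZMod 2}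
    (he : ∑ i, ε i = 0) : InT ρ T ε 1 := by
  obtain ⟨a, b, hab, h⟩ := H.exists_pair hT hne
  have hpair : ∀ {i j : Fin 7}, i ≠ j → InT ρ T (dl i + dl j) 1 := by
    intro i j hij
    obtain ⟨π, hπ, hai, hbj⟩ := exists_even_pair hab hij
    have := H.conj_sign hT h hπ (by simp [dl, Finset.sum_add_distrib, show (1 : ZMod 2) + 1 = 0 from rfl])
    have e : (dl a + dl b) ∘ π.symm = dl i + dl j := by
      funext k
      simp [dl, Pi.single_apply, Equiv.symm_apply_eq, hai, hbj]
    rwa [e] at this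
  have hs : ∀ s : Finset (Fin 7), (∀ i ∈ s, i ≠ 6) → InT ρ T (∑ i ∈ s, (dl i + dl 6)) 1 := by
    intro s
    induction s using Finset.induction_on with
    | empty => intro _; exact ⟨1, T.one_mem, by rw [Finset.sum_empty, mon_one, map_one]⟩
    | insert i s hi ih =>
      intro h6
      rw [Finset.sum_insert hi]
      exact (hpair (h6 i (Finset.mem_insert_self _ _))).add ρ (ih fun k hk => h6 k (Finset.mem_insert_of_mem hk))
  rw [even_decomp ε he]
  exact hs _ fun i hi => (Finset.mem_filter.1 hi).2.1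

end Setup

end Cfsg.Agent.OmegaSevenFus
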