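import Mathlib
import Cfsg.Agent.OmegaSevenFus.Core

/-!
The only strongly closed subgroups are the trivial one and the whole 2-subgroup: an isometry outside the signed
permutations fuses a double transposition with a sign vector of weight two.
-/

set_option autoImplicit false

namespace Cfsg.Agent.OmegaSevenFus

open Module QuadraticMap Equiv
open Cfsg.Agent.Classical.Quad Cfsg.Agent.GroupSub

variable {F : Type*} [Field F]

/-- The half-Hadamard map on the first four coordinates. -/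
noncomputable def hadFun (x : Fin 7 → F) : Fin 7 → F :=
  ![(x 0 + x 1 + x 2 + x 3) / 2, (-x 0 - x 1 + x 2 + x 3) / 2, (x 0 - x 1 + x 2 - x 3) / 2,
    (-x 0 + x 1 + x 2 - x 3) / 2, x 4, x 5, x 6]

/-- Its transpose. -/
noncomputable def hadInv (y : Fin 7 → F) : Fin 7 → F :=
  ![(y 0 - y 1 + y 2 - y 3) / 2, (y 0 - y 1 - y 2 + y 3) / 2, (y 0 + y 1 + y 2 + y 3) / 2,
    (y 0 + y 1 - y 2 - y 3) / 2, y 4, y 5, y 6]

theorem hadInv_hadFun (h2 : (2 : F) ≠ 0) (x : Fin 7 → F) : hadInv (hadFun x) = x := by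
  funext i
  fin_cases i <;> simp [hadInv, hadFun] <;> field_simp <;> ring

theorem hadFun_hadInv (h2 : (2 : F) ≠ 0) (y : Fin 7 → F) : hadFun (hadInv y) = y := by
  funext i
  fin_cases i <;> simp [hadInv, hadFun] <;> field_simp <;> ring

theorem q_hadFun (h2 : (2 : F) ≠ 0) (x : Fin 7 → F) : Qs F (hadFun x) = Qs F x := by
  rw [Qs_apply, Qs_apply, Fin.sum_univ_seven, Fin.sum_univ_seven]
  simp [hadFun]
  field_simp
  ring

/-- The isometry. -/
noncomputable def had (h2 : (2 : F) ≠ 0) : oG (Qs F) :=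
  ⟨{ toFun := hadFun
     invFun := hadInv
     map_add' := fun x y => by funext i; fin_cases i <;> simp [hadFun] <;> ring
     map_smul' := fun c x => by funext i; fin_cases i <;> simp [hadFun] <;> ring
     left_inv := hadInv_hadFun h2
     right_inv := hadFun_hadInv h2 }, q_hadFun h2⟩

theorem had_conj (h2 : (2 : F) ≠ 0) :
    had h2 * mon F (dl 0 + dl 1) 1 * (had h2)⁻¹ = mon F 0 pc := by
  rw [mul_inv_eq_iff_eq_mul]
  refine ext_oG fun x => funext fun i => ?_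
  rw [oG_mul_apply, oG_mul_apply, mon_apply]
  show hadFun _ i = _ * hadFun x _
  rw [Pi.zero_apply, sg_zero, one_mul,
    show pc⁻¹ = pc from inv_eq_of_mul_eq_one_right (by decide +kernel)]
  fin_cases i <;>
    simp [hadFun, mon_apply, dl, Pi.single_apply, sg_zero, sg_one, pc, show (1 : ZMod 2) ≠ 0 from one_ne_zero] <;>
    ring

variable [Finite F]

theorem exists_chars (h2 : (2 : F) ≠ 0) (hns : ¬ IsSquare (2 : F)) (d s : ℤˣ) :
    ∃ ε π, dickson (nondegenerate_Qs h2) (hex_of_two h2 _) (mon F ε π) = d ∧ spin (Qs F) (mon F ε π) = s ∧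
      mon F ε π * mon F (dl 0 + dl 1) 1 * (mon F ε π)⁻¹ = mon F (dl 0 + dl 1) 1 := by
  have c1 : ∀ ε : Fin 7 → ZMod 2, ε = 0 ∨ ε = dl 6 → ∀ π : Perm (Fin 7), π = 1 ∨ π = swap 4 5 →
      ε + (dl 0 + dl 1) ∘ π.symm + (ε ∘ π) ∘ (π * 1).symm = dl 0 + dl 1 ∧ π * 1 * π⁻¹ = 1 := by
    rintro ε (rfl | rfl) π (rfl | rfl) <;> constructor <;> decide +kernel
  have hsum : ∑ i, dl 6 i = (1 : ZMod 2) := by decide +kernel
  rcases Int.units_eq_one_or d with rfl | rfl <;> rcases Int.units_eq_one_or s with rfl | rfl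
  · refine ⟨0, 1, ?_, ?_, ?_⟩
    · rw [(chars_mon h2 hns _ _).1]; simp
    · rw [(chars_mon h2 hns _ _).2]; simp
    · rw [mon_conj, (c1 0 (Or.inl rfl) 1 (Or.inl rfl)).1, (c1 0 (Or.inl rfl) 1 (Or.inl rfl)).2]
  · refine ⟨dl 6, swap 4 5, ?_, ?_, ?_⟩
    · rw [(chars_mon h2 hns _ _).1, hsum, Perm.sign_swap (by decide)]; simp
    · rw [(chars_mon h2 hns _ _).2, hsum]; simp
    · rw [mon_conj, (c1 _ (Or.inr rfl) _ (Or.inr rfl)).1, (c1 _ (Or.inr rfl) _ (Or.inr rfl)).2]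
  · refine ⟨0, swap 4 5, ?_, ?_, ?_⟩
    · rw [(chars_mon h2 hns _ _).1, Perm.sign_swap (by decide)]; simp
    · rw [(chars_mon h2 hns _ _).2]; simp
    · rw [mon_conj, (c1 _ (Or.inl rfl) _ (Or.inr rfl)).1, (c1 _ (Or.inl rfl) _ (Or.inr rfl)).2]
  · refine ⟨dl 6, 1, ?_, ?_, ?_⟩
    · rw [(chars_mon h2 hns _ _).1, hsum]; simp
    · rw [(chars_mon h2 hns _ _).2, hsum]; simp
    · rw [mon_conj, (c1 _ (Or.inr rfl) _ (Or.inl rfl)).1, (c1 _ (Or.inr rfl) _ (Or.inl rfl)).2]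

theorem dih_words : ∀ a ∈ dih, a = 1 ∨ a = pa ∨ a = pb ∨ a = pc ∨ a = pa * pb ∨ a = pb * pa ∨
    a = pa * pb * pa ∨ a = pb * pa * pb :=
  of_all (by decide +kernel)

namespace Setup

variable {G : Type*} [Group G] [Finite G] {ρ : G →* oG (Qs F)} (H : Setup ρ)
include H

theorem eltClosed_cases {T : Subgroup G} (hT : EltClosed (S₀ ρ) T) : T = ⊥ ∨ T = S₀ ρ := by
  refine or_iff_not_imp_left.2 fun hne => ?_
  refine le_antisymm hT.1 ?_
  have hw : InT ρ T 0 pc := by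
    obtain ⟨x, hx, ex⟩ := H.signs_mem hT hne (ε := dl 0 + dl 1) (by decide +kernel)
    obtain ⟨ε, π, hd, hs, hc⟩ := exists_chars H.two H.nonsquare
      (dickson (nondegenerate_Qs H.two) (hex_of_two H.two _) (had H.two)) (spin (Qs F) (had H.two))
    have hmem : had H.two * mon F ε π ∈ ρ.range := by
      rw [H.range, mem_commutator_iff (nondegenerate_Qs H.two) H.two (by rw [Module.finrank_fin_fun]; norm_num),
        map_mul, map_mul, hd, hs, Int.units_mul_self, Int.units_mul_self]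
      exact ⟨rfl, rfl⟩
    obtain ⟨g, hg⟩ := hmem
    have e : ρ (g * x * g⁻¹) = mon F 0 pc := by
      rw [map_mul, map_mul, map_inv, hg, ex,
        show had H.two * mon F ε π * mon F (dl 0 + dl 1) 1 * (had H.two * mon F ε π)⁻¹ =
          had H.two * (mon F ε π * mon F (dl 0 + dl 1) 1 * (mon F ε π)⁻¹) * (had H.two)⁻¹ by group,
        hc, had_conj]
    exact ⟨_, hT.2 x hx g ⟨0, pc, by simp, pc_mem, e⟩, e⟩
  have hperm : ∀ π : Perm (Fin 7), Perm.sign π = 1 → π * pc * π⁻¹ ∈ dih → InT ρ T 0 (π * pc * π⁻¹) :=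
    fun π hπ hd => by
      have := H.conj_mem hT hw hπ (by simp) hd
      rwa [Pi.zero_comp] at this
  have hA : InT ρ T 0 pa := by
    have e : pa = swap 2 4 * swap 3 5 * pc * (swap 2 4 * swap 3 5)⁻¹ := by decide +kernel
    rw [e]
    exact hperm _ (by rw [map_mul, Perm.sign_swap (by decide), Perm.sign_swap (by decide)]; rfl) (e ▸ pa_mem)
  have hB : InT ρ T 0 pb := by
    have e : pb = swap 1 2 * swap 5 6 * pc * (swap 1 2 * swap 5 6)⁻¹ := by decide +kernel
    rw [e]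
    exact hperm _ (by rw [map_mul, Perm.sign_swap (by decide), Perm.sign_swap (by decide)]; rfl) (e ▸ pb_mem)
  have hm : ∀ {σ σ' : Perm (Fin 7)}, InT ρ T 0 σ → InT ρ T 0 σ' → InT ρ T 0 (σ * σ') := fun h h' => by
    simpa using h.mul ρ h'
  have hall : ∀ d ∈ dih, InT ρ T 0 d := by
    intro d hd
    rcases dih_words d hd with h | h | h | h | h | h | h | h <;> subst h
    exacts [⟨1, T.one_mem, by rw [mon_one, map_one]⟩, hA, hB, hw, hm hA hB, hm hB hA, hm (hm hA hB) hA,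
      hm (hm hB hA) hB]
  rintro x ⟨ε, σ, he, hσ, hx⟩
  obtain ⟨y, hy, ey⟩ := (H.signs_mem hT hne he).mul ρ (hall σ hσ)
  rw [Pi.zero_comp, add_zero, one_mul, ← hx] at ey
  exact H.inj ey ▸ hy

end Setup

end Cfsg.Agent.OmegaSevenFus
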