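import Mathlib
import Cfsg.Agent.OmegaSevenFus.Closed
import Cfsg.Agent.Classical.OrthMat
import Cfsg.Agent.GroupSub.Saturation
import Cfsg.Agent.S5339

/-!
The 2-fusion of the commutator subgroup of the seven dimensional orthogonal group over a field in which two is a
non-square.
-/

set_option autoImplicit false

namespace Cfsg.Agent.OmegaSevenFus

open Module QuadraticMap Equiv
open Cfsg.Agent.Classical.Quad Cfsg.Agent.GroupSub

section conj

variable {G : Type*} [Group G] [Finite G]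

/-- Self-normalisation and absence of strongly closed subgroups pass to every Sylow 2-subgroup. -/
theorem fusion_of_data (S₀ : Subgroup G) (hp : IsPGroup 2 S₀)
    (hN : Subgroup.normalizer (S₀ : Set G) = S₀) (hne : S₀ ≠ ⊥)
    (hsc : ∀ T : Subgroup G, EltClosed S₀ T → T = ⊥ ∨ T = S₀) (S : Sylow 2 G) :
    (Cfsg.groupFusionSystem (S : Subgroup G)).autGroup (S : Subgroup G) = Cfsg.Inn ↥(S : Subgroup G) ∧
    (∀ T : Subgroup G, (Cfsg.groupFusionSystem (S : Subgroup G)).StronglyClosed T →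
      T = ⊥ ∨ T = (S : Subgroup G)) ∧
    (Cfsg.groupFusionSystem (S : Subgroup G)).IsSimple 2 := by
  haveI : Fact (Nat.Prime 2) := ⟨Nat.prime_two⟩
  obtain ⟨P, hP⟩ := hp.exists_le_sylow
  have hPS : S₀ = (P : Subgroup G) := by
    by_contra hlt
    haveI : Group.IsNilpotent (P : Subgroup G) := P.isPGroup'.isNilpotent
    have hproper : S₀.subgroupOf (P : Subgroup G) < ⊤ :=
      lt_top_iff_ne_top.2 fun h => hlt (le_antisymm hP (Subgroup.subgroupOf_eq_top.1 h))
    refine (Group.normalizerCondition_of_isNilpotent _ hproper).ne (le_antisymm Subgroup.le_normalizer ?_)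
    intro x hx
    rw [Subgroup.mem_subgroupOf, ← SetLike.mem_coe, SetLike.mem_coe]
    have : (x : G) ∈ Subgroup.normalizer (S₀ : Set G) := by
      refine mem_normalizer_of_cj_le ?_
      rintro _ ⟨y, hy, rfl⟩
      exact (Subgroup.mem_normalizer_iff.1 hx ⟨y, hP hy⟩).1 hy
    rwa [hN] at this
  obtain ⟨a, ha⟩ := MulAction.exists_smul_eq G P S
  have hS : (S : Subgroup G) = cj a S₀ := by rw [← ha, hPS]; rfl
  have hSN : Subgroup.normalizer ((S : Subgroup G) : Set G) = (S : Subgroup G) := by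
    refine le_antisymm (fun g hg => ?_) Subgroup.le_normalizer
    have hg0 : a⁻¹ * g * a ∈ Subgroup.normalizer (S₀ : Set G) := by
      refine mem_normalizer_of_cj_eq ?_
      rw [← cj_cj, ← cj_cj, ← hS, cj_eq_of_mem_normalizer hg, hS, cj_cj, inv_mul_cancel,
        cj_eq_of_mem_normalizer (Subgroup.one_mem _)]
    rw [hN] at hg0
    rw [hS, mem_cj]
    exact hg0
  have haut : (Cfsg.groupFusionSystem (S : Subgroup G)).autGroup (S : Subgroup G) =
      Cfsg.Inn ↥(S : Subgroup G) := by
    refine le_antisymm ((Subgroup.closure_le _).2 ?_) ?_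
    · rintro α ⟨-, -, g, hg⟩
      have hgS : g ∈ (S : Subgroup G) := by
        rw [← hSN]
        refine mem_normalizer_of_cj_le ?_
        rintro _ ⟨y, hy, rfl⟩
        show g * y * g⁻¹ ∈ (S : Subgroup G)
        have h1 : ((α ⟨y, hy⟩ : (S : Subgroup G)) : G) = g * y * g⁻¹ := hg ⟨y, hy⟩
        rw [← h1]
        exact (α ⟨y, hy⟩).2
      exact ⟨⟨g, hgS⟩, MulEquiv.ext fun x => Subtype.ext (hg x).symm⟩
    · rintro _ ⟨s, rfl⟩
      refine Subgroup.subset_closure ?_
      exact ⟨le_rfl, fun x => ((MulAut.conj s) x).2, (s : G), fun x => rfl⟩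
  have hscS : ∀ T : Subgroup G, (Cfsg.groupFusionSystem (S : Subgroup G)).StronglyClosed T →
      T = ⊥ ∨ T = (S : Subgroup G) := by
    intro T hT
    obtain ⟨hTS, hcl⟩ := eltClosed_of_stronglyClosed S hT
    have h0 : EltClosed S₀ (cj a⁻¹ T) := by
      refine ⟨?_, ?_⟩
      · intro y hy
        have := hTS (mem_cj.1 hy)
        rw [hS, mem_cj] at this
        simpa [mul_assoc] using this
      · intro x hx g hg
        have hx' : a * x * a⁻¹ ∈ T := by simpa using mem_cj.1 hx
        have hg' : (a * g * a⁻¹) * (a * x * a⁻¹) * (a * g * a⁻¹)⁻¹ ∈ (S : Subgroup G) := by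
          rw [hS, mem_cj]; simpa [mul_assoc] using hg
        have := hcl _ hx' _ hg'
        rw [mem_cj]; simpa [mul_assoc] using this
    rcases hsc _ h0 with h | h
    · left
      exact (Subgroup.map_eq_bot_iff_of_injective _ (MulAut.conj a⁻¹).injective).1 h
    · right
      rw [hS, ← h, cj_cj, mul_inv_cancel, cj_eq_of_mem_normalizer (Subgroup.one_mem _)]
  refine ⟨haut, hscS, Cfsg.Agent.S5339.result 2 S.isPGroup' _ (groupFusionSystem_isSaturated S) ?_ haut hscS⟩
  rw [hS, Ne, Subgroup.map_eq_bot_iff_of_injective _ (MulAut.conj a).injective]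
  exact hne

end conj

variable {F : Type*} [Field F] [Fintype F]

/-- Coordinates in which the negative of the split form is the sum of squares. -/
theorem exists_coord (h2 : (2 : F) ≠ 0) :
    ∃ L : (Unit ⊕ (Fin 3 ⊕ Fin 3) → F) ≃ₗ[F] (Fin 7 → F), ∀ x, Qs F (L x) = -Cfsg.quadFormOdd 3 F x := by
  obtain ⟨s, t, hst⟩ : ∃ s t : F, s ^ 2 + t ^ 2 = -1 := by
    obtain ⟨a, b, hab⟩ := FiniteField.exists_root_sum_quadratic (f := Polynomial.X ^ 2)
      (g := Polynomial.X ^ 2 + Polynomial.C 1) (R := F) (by simp)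
      (Polynomial.degree_X_pow_add_C (by norm_num) 1)
      (FiniteField.odd_card_of_char_ne_two (by
        intro h
        exact h2 (by have : CharP F 2 := h ▸ ringChar.charP F; exact CharTwo.two_eq_zero)))
    exact ⟨a, b, by simp at hab; linear_combination hab⟩
  let toF : (Unit ⊕ (Fin 3 ⊕ Fin 3) → F) → (Fin 7 → F) := fun x =>
    let u : Fin 3 → F := fun i => (x (.inr (.inl i)) + x (.inr (.inr i))) / 2
    let w : Fin 3 → F := fun i => (x (.inr (.inl i)) - x (.inr (.inr i))) / 2
    ![s * x (.inl ()) + t * u 0, t * x (.inl ()) - s * u 0, s * u 1 + t * u 2, t * u 1 - s * u 2, w 0, w 1, w 2]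
  let invF : (Fin 7 → F) → (Unit ⊕ (Fin 3 ⊕ Fin 3) → F) := fun y =>
    let u : Fin 3 → F := ![-(t * y 0 - s * y 1), -(s * y 2 + t * y 3), -(t * y 2 - s * y 3)]
    let w : Fin 3 → F := ![y 4, y 5, y 6]
    Sum.elim (fun _ => -(s * y 0 + t * y 1)) (Sum.elim (fun i => u i + w i) fun i => u i - w i)
  refine ⟨{ toFun := toF, invFun := invF, map_add' := ?_, map_smul' := ?_, left_inv := ?_, right_inv := ?_ }, ?_⟩
  · intro x y; funext i; fin_cases i <;> simp [toF] <;> ring
  · intro c x; funext i; fin_cases i <;> simp [toF] <;> ring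
  · intro x
    funext i
    rcases i with ⟨⟩ | i | i
    · simp [toF, invF]
      linear_combination (-(x (.inl ()))) * hst
    · fin_cases i <;> simp [toF, invF] <;> field_simp
      · linear_combination (-(x (.inr (.inl 0)) + x (.inr (.inr 0)))) * hst
      · linear_combination (-(x (.inr (.inl 1)) + x (.inr (.inr 1)))) * hst
      · linear_combination (-(x (.inr (.inl 2)) + x (.inr (.inr 2)))) * hst
    · fin_cases i <;> simp [toF, invF] <;> field_simp
      · linear_combination (-(x (.inr (.inl 0)) + x (.inr (.inr 0)))) * hst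
      · linear_combination (-(x (.inr (.inl 1)) + x (.inr (.inr 1)))) * hst
      · linear_combination (-(x (.inr (.inl 2)) + x (.inr (.inr 2)))) * hst
  · intro y
    funext i
    fin_cases i <;> simp [toF, invF] <;> field_simp
    · linear_combination (-(2 * y 0)) * hst
    · linear_combination (-(2 * y 1)) * hst
    · linear_combination (-(2 * y 2)) * hst
    · linear_combination (-(2 * y 3)) * hst
    all_goals ring
  · intro x
    show Qs F (toF x) = _
    rw [Qs_apply, Fin.sum_univ_seven, Cfsg.quadFormOdd, Fin.sum_univ_three]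
    simp [toF]
    field_simp
    linear_combination (4 * x (.inl ()) ^ 2 + (x (.inr (.inl 0)) + x (.inr (.inr 0))) ^ 2 +
      (x (.inr (.inl 1)) + x (.inr (.inr 1))) ^ 2 + (x (.inr (.inl 2)) + x (.inr (.inr 2))) ^ 2) * hst

/-- The statement for one Sylow subgroup. -/
theorem main (q : ℕ) (hF : Fintype.card F = q) (hq : q % 8 = 3 ∨ q % 8 = 5)
    (S : Sylow 2 ↥(Cfsg.Omega F (Cfsg.quadFormOdd 3 F))) :
    (Cfsg.groupFusionSystem (S : Subgroup ↥(Cfsg.Omega F (Cfsg.quadFormOdd 3 F)))).autGroup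
        (S : Subgroup ↥(Cfsg.Omega F (Cfsg.quadFormOdd 3 F))) =
      Cfsg.Inn ↥(S : Subgroup ↥(Cfsg.Omega F (Cfsg.quadFormOdd 3 F))) ∧
    (∀ T : Subgroup ↥(Cfsg.Omega F (Cfsg.quadFormOdd 3 F)),
      (Cfsg.groupFusionSystem (S : Subgroup ↥(Cfsg.Omega F (Cfsg.quadFormOdd 3 F)))).StronglyClosed T →
        T = ⊥ ∨ T = (S : Subgroup ↥(Cfsg.Omega F (Cfsg.quadFormOdd 3 F)))) ∧
    (Cfsg.groupFusionSystem (S : Subgroup ↥(Cfsg.Omega F (Cfsg.quadFormOdd 3 F)))).IsSimple 2 := by
  have hns : ¬ IsSquare (2 : F) := fun h => by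
    have := FiniteField.isSquare_two_iff.1 h
    rw [hF] at this
    omega
  have h2 : (2 : F) ≠ 0 := fun h => hns (h ▸ IsSquare.zero)
  obtain ⟨L, hL⟩ := exists_coord (F := F) h2
  let Q₀ : QuadraticForm F (Unit ⊕ (Fin 3 ⊕ Fin 3) → F) := -((Qs F).comp L.toLinearMap)
  have hQ₀ : ⇑Q₀ = Cfsg.quadFormOdd 3 F := funext fun x => by simp [Q₀, hL]
  revert S
  rw [← hQ₀]
  intro S
  let C : oG Q₀ →* oG (Qs F) :=
    MonoidHom.mk' (fun g => ⟨(L.symm.trans g.1).trans L, fun x => by
        show Qs F (L (g.1 (L.symm x))) = Qs F x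
        have := g.2 (L.symm x)
        simp [Q₀] at this
        rw [this]⟩)
      fun g g' => ext_oG fun x => by simp [oG_mul_apply]
  have hC : Function.Bijective C := by
    refine ⟨fun g g' h => ext_oG fun x => ?_, fun g => ?_⟩
    · have := congrArg (fun f : oG (Qs F) => L.symm (f.1 (L x))) h
      simpa [C] using this
    · refine ⟨⟨(L.trans g.1).trans L.symm, fun x => ?_⟩, ext_oG fun x => by simp [C]⟩
      show Q₀ (L.symm (g.1 (L x))) = Q₀ x
      have := g.2 (L x)
      simp [Q₀, this]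
  let Φ : Cfsg.isometryGroup F ⇑Q₀ →* oG (Qs F) := C.comp (oEquiv Q₀).toMonoidHom
  have hΦ : Function.Bijective Φ := hC.comp (oEquiv Q₀).bijective
  let ρ : Cfsg.Omega F ⇑Q₀ →* oG (Qs F) := Φ.comp (Cfsg.Omega F ⇑Q₀).subtype
  have H : Setup ρ :=
    { two := h2
      nonsquare := hns
      inj := hΦ.1.comp Subtype.val_injective
      range := by
        rw [show ρ.range = (Cfsg.Omega F ⇑Q₀).map Φ by
          rw [MonoidHom.range_comp, Subgroup.range_subtype], Cfsg.Omega, commutator_def, commutator_def,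
          Subgroup.map_commutator, Subgroup.map_top_of_surjective Φ hΦ.2] }
  refine fusion_of_data (S₀ ρ) H.isPGroup H.normalizer_eq ?_ (fun T hT => H.eltClosed_cases hT) S
  intro h
  obtain ⟨g, hg⟩ := H.lift (ε := 0) (σ := pc) (by simp) (dih_sign _ pc_mem)
  have hgS : g ∈ S₀ ρ := ⟨0, pc, by simp, pc_mem, hg⟩
  rw [h, Subgroup.mem_bot] at hgS
  rw [hgS, map_one, ← mon_one] at hg
  exact pc_ne (mon_injective h2 hg).2.symm

end Cfsg.Agent.OmegaSevenFus
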